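import Mathlib

/-!
# Homogeneous prime avoidance (helper6)
-/

set_option autoImplicit false
set_option linter.unusedSectionVars false
set_option linter.unusedVariables false
set_option linter.unusedSimpArgs false
set_option linter.style.haveILetI false
set_option maxHeartbeats 400000

universe u

namespace Groth.Agent.Lib.Helper6.SegDim

open DirectSum

variable {k : Type u} [Field k] {R : Type u} [CommRing R] [Algebra k R]
  (𝒜 : ℤ → Submodule k R) [GradedAlgebra 𝒜]

/-- homogeneous of positive degree -/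
def IsPosHom (x : R) : Prop := ∃ n : ℤ, 0 < n ∧ x ∈ 𝒜 n

theorem isPosHom_zero : IsPosHom 𝒜 (0 : R) := ⟨1, one_pos, Submodule.zero_mem _⟩

variable {𝒜}

theorem le_of_forall_homogeneous_mem {q p : Ideal R} (hq : q.IsHomogeneous 𝒜)
    (h : ∀ (n : ℤ) (z : R), z ∈ 𝒜 n → z ∈ q → z ∈ p) : q ≤ p := by
  classical
  intro z hz
  rw [← DirectSum.sum_support_decompose 𝒜 z]
  refine Ideal.sum_mem _ (fun n _ => ?_)
  exact h n _ (decompose 𝒜 z n).2 (hq n hz)

theorem eq_zero_of_mem_neg (hpos : ∀ n : ℤ, n < 0 → 𝒜 n = ⊥) {n : ℤ} (hn : n < 0) {z : R}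
    (hz : z ∈ 𝒜 n) : z = 0 := by
  rw [hpos n hn] at hz
  exact (Submodule.mem_bot k).mp hz

/-- combine two positive homogeneous elements into one of a common degree -/
theorem exists_combine {x y : R} (hx : IsPosHom 𝒜 x) (hy : IsPosHom 𝒜 y) :
    ∃ (a b : ℕ), 0 < a ∧ 0 < b ∧ IsPosHom 𝒜 (x ^ a + y ^ b) := by
  obtain ⟨n, hn, hxn⟩ := hx
  obtain ⟨m, hm, hym⟩ := hy
  refine ⟨m.toNat, n.toNat, by omega, by omega, n * m, mul_pos hn hm, ?_⟩
  have h1 : x ^ m.toNat ∈ 𝒜 (m.toNat • n) := SetLike.pow_mem_graded _ hxn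
  have h2 : y ^ n.toNat ∈ 𝒜 (n.toNat • m) := SetLike.pow_mem_graded _ hym
  have e1 : m.toNat • n = n * m := by
    rw [nsmul_eq_mul, Int.toNat_of_nonneg hm.le, mul_comm]
  have e2 : n.toNat • m = n * m := by
    rw [nsmul_eq_mul, Int.toNat_of_nonneg hn.le]
  rw [e1] at h1
  rw [e2] at h2
  exact Submodule.add_mem _ h1 h2

/-- homogeneous prime avoidance, for homogeneous primes -/
theorem exists_posHom_notMem_of_homogeneous (hpos : ∀ n : ℤ, n < 0 → 𝒜 n = ⊥) :
    ∀ (c : ℕ) (S : Finset (Ideal R)), S.card = c → (∀ p ∈ S, p.IsPrime) →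
      (∀ p ∈ S, p.IsHomogeneous 𝒜) → (∀ p ∈ S, ∃ x, IsPosHom 𝒜 x ∧ x ∉ p) →
      ∃ x, IsPosHom 𝒜 x ∧ ∀ p ∈ S, x ∉ p := by
  classical
  intro c
  induction c using Nat.strong_induction_on with
  | _ c ih =>
    intro S hc hprime hhom hne
    rcases S.eq_empty_or_nonempty with hS | hS
    · subst hS
      exact ⟨0, isPosHom_zero 𝒜, by simp⟩
    by_cases hchain : ∃ p ∈ S, ∃ q ∈ S, p ≠ q ∧ p ≤ q
    · obtain ⟨p, hp, q, hq, hpq, hle⟩ := hchain
      have hcard : (S.erase p).card < c := by
        rw [← hc]; exact Finset.card_erase_lt_of_mem hp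
      obtain ⟨x, hx, hxS⟩ := ih _ hcard (S.erase p) rfl
        (fun p' hp' => hprime p' (Finset.mem_of_mem_erase hp'))
        (fun p' hp' => hhom p' (Finset.mem_of_mem_erase hp'))
        (fun p' hp' => hne p' (Finset.mem_of_mem_erase hp'))
      refine ⟨x, hx, fun p' hp' => ?_⟩
      by_cases h : p' = p
      · subst h
        intro hxp
        exact hxS q (Finset.mem_erase.mpr ⟨fun h => hpq h.symm, hq⟩) (hle hxp)
      · exact hxS p' (Finset.mem_erase.mpr ⟨h, hp'⟩)
    · push Not at hchain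
      obtain ⟨p, hp⟩ := hS
      have hcard : (S.erase p).card < c := by
        rw [← hc]; exact Finset.card_erase_lt_of_mem hp
      obtain ⟨x, hx, hxS⟩ := ih _ hcard (S.erase p) rfl
        (fun p' hp' => hprime p' (Finset.mem_of_mem_erase hp'))
        (fun p' hp' => hhom p' (Finset.mem_of_mem_erase hp'))
        (fun p' hp' => hne p' (Finset.mem_of_mem_erase hp'))
      by_cases hxp : x ∉ p
      · refine ⟨x, hx, fun p' hp' => ?_⟩
        by_cases h : p' = p
        · subst h; exact hxp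
        · exact hxS p' (Finset.mem_erase.mpr ⟨h, hp'⟩)
      · rw [not_not] at hxp
        haveI hpp : p.IsPrime := hprime p hp
        -- homogeneous elements of the other primes outside `p`
        have hz : ∀ q ∈ S.erase p, ∃ (n : ℤ) (z : R), z ∈ 𝒜 n ∧ z ∈ q ∧ z ∉ p := by
          intro q hq
          have hq' := Finset.mem_of_mem_erase hq
          have hne' : q ≠ p := (Finset.mem_erase.mp hq).1
          by_contra hcon
          push Not at hcon
          have hle : q ≤ p := le_of_forall_homogeneous_mem (hhom q hq')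
            (fun n z hzn hzq => hcon n z hzn hzq)
          exact hchain q hq' p hp hne' hle
        choose! dg zf hzf using hz
        obtain ⟨w, ⟨a, ha, hwa⟩, hwp⟩ := hne p hp
        set Z := ∏ q ∈ S.erase p, zf q with hZ
        have hZmem : Z ∈ 𝒜 (∑ q ∈ S.erase p, dg q) := by
          rw [hZ]
          exact SetLike.prod_mem_graded _ _ _ (fun q hq => (hzf q hq).1)
        have hZp : Z ∉ p := by
          rw [hZ, Ideal.IsPrime.prod_mem_iff]
          push Not
          intro q hq
          exact (hzf q hq).2.2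
        have hZq : ∀ q ∈ S.erase p, Z ∈ q := by
          intro q hq
          rw [hZ]
          exact Ideal.mem_of_dvd _ (Finset.dvd_prod_of_mem zf hq) (hzf q hq).2.1
        set y := w * Z with hy
        have hyp : y ∉ p := by
          rw [hy]
          intro h
          rcases hpp.mem_or_mem h with h | h
          · exact hwp h
          · exact hZp h
        have hyq : ∀ q ∈ S.erase p, y ∈ q := fun q hq => Ideal.mul_mem_left _ _ (hZq q hq)
        have hb : 0 ≤ ∑ q ∈ S.erase p, dg q := by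
          by_contra hneg
          push Not at hneg
          have := eq_zero_of_mem_neg hpos hneg hZmem
          exact hZp (this ▸ p.zero_mem)
        have hypos : IsPosHom 𝒜 y :=
          ⟨a + ∑ q ∈ S.erase p, dg q, by omega, SetLike.GradedMul.mul_mem hwa hZmem⟩
        obtain ⟨e, f, he, hf, hcomb⟩ := exists_combine hx hypos
        refine ⟨x ^ e + y ^ f, hcomb, fun p' hp' => ?_⟩
        by_cases h : p' = p
        · subst h
          intro hmem
          have h1 : x ^ e ∈ p' := Ideal.pow_mem_of_mem _ hxp e he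
          have h2 : y ^ f ∈ p' := (Ideal.add_mem_iff_right _ h1).mp hmem
          exact hyp (hpp.mem_of_pow_mem f h2)
        · have hp'' : p' ∈ S.erase p := Finset.mem_erase.mpr ⟨h, hp'⟩
          haveI : p'.IsPrime := hprime p' hp'
          intro hmem
          have h1 : y ^ f ∈ p' := Ideal.pow_mem_of_mem _ (hyq p' hp'') f hf
          have h2 : x ^ e ∈ p' := (Ideal.add_mem_iff_left _ h1).mp hmem
          exact hxS p' hp'' (Ideal.IsPrime.mem_of_pow_mem ‹_› e h2)

/-- **homogeneous prime avoidance** -/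
theorem exists_posHom_notMem (hpos : ∀ n : ℤ, n < 0 → 𝒜 n = ⊥)
    (S : Finset (Ideal R)) (hprime : ∀ p ∈ S, p.IsPrime)
    (hne : ∀ p ∈ S, ∃ x, IsPosHom 𝒜 x ∧ x ∉ p) :
    ∃ x, IsPosHom 𝒜 x ∧ ∀ p ∈ S, x ∉ p := by
  classical
  let core : Ideal R → Ideal R := fun p => (p.homogeneousCore 𝒜).toIdeal
  have hcore_le : ∀ p : Ideal R, core p ≤ p := fun p => Ideal.toIdeal_homogeneousCore_le 𝒜 p
  have hcore_mem : ∀ (p : Ideal R) (x : R), IsPosHom 𝒜 x → x ∈ p → x ∈ core p := by
    intro p x ⟨n, _, hxn⟩ hxp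
    exact Ideal.mem_homogeneousCore_of_homogeneous_of_mem ⟨n, hxn⟩ hxp
  obtain ⟨x, hx, hxS⟩ := exists_posHom_notMem_of_homogeneous hpos _ (S.image core) rfl
    (by
      intro p' hp'
      obtain ⟨p, hp, rfl⟩ := Finset.mem_image.mp hp'
      exact (hprime p hp).homogeneousCore)
    (by
      intro p' hp'
      obtain ⟨p, hp, rfl⟩ := Finset.mem_image.mp hp'
      exact (p.homogeneousCore 𝒜).isHomogeneous)
    (by
      intro p' hp'
      obtain ⟨p, hp, rfl⟩ := Finset.mem_image.mp hp'
      obtain ⟨x, hx, hxp⟩ := hne p hp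
      exact ⟨x, hx, fun h => hxp (hcore_le p h)⟩)
  refine ⟨x, hx, fun p hp hxp => ?_⟩
  exact hxS (core p) (Finset.mem_image_of_mem _ hp) (hcore_mem p x hx hxp)

end Groth.Agent.Lib.Helper6.SegDim
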