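import Mathlib
import Groth.Agent.Lib.Helper6.SegDim.SDb
import Groth.Agent.Lib.Helper8.Depth25

/-!
# Homogeneous systems of parameters (helper6)
-/

set_option autoImplicit false
set_option linter.unusedSectionVars false
set_option linter.unusedVariables false
set_option linter.unusedSimpArgs false
set_option linter.style.haveILetI false
set_option maxHeartbeats 400000

universe u

namespace Groth.Agent.Lib.Helper6.SegDim

open DirectSum Groth.Agent.Helper8.Depth

theorem ringKrullDim_quotient_le_of_forall_prime {R : Type u} [CommRing R] (J : Ideal R)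
    (n : WithBot ℕ∞)
    (h : ∀ Q : Ideal R, Q.IsPrime → J ≤ Q → ringKrullDim (R ⧸ Q) ≤ n) :
    ringKrullDim (R ⧸ J) ≤ n := by
  rw [ringKrullDim, Order.krullDim_eq_iSup_coheight]
  refine iSup_le fun P' => ?_
  rw [← ringKrullDim_quotient_eq_coheight P']
  set Q := P'.asIdeal.comap (Ideal.Quotient.mk J) with hQ
  have hJQ : J ≤ Q := by
    intro x hx
    rw [hQ, Ideal.mem_comap, Ideal.Quotient.eq_zero_iff_mem.mpr hx]
    exact Ideal.zero_mem _
  have hmap : Q.map (Ideal.Quotient.mk J) = P'.asIdeal :=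
    Ideal.map_comap_of_surjective _ Ideal.Quotient.mk_surjective _
  rw [← hmap, ringKrullDim_eq_of_ringEquiv (DoubleQuot.quotQuotEquivQuotOfLE hJQ)]
  exact h Q (Ideal.IsPrime.comap _) hJQ

theorem withBot_enat_le_of_add_one_le {a : WithBot ℕ∞} {n : ℕ}
    (h : a + 1 ≤ (n : WithBot ℕ∞) + 1) : a ≤ n := by
  induction a using WithBot.recBotCoe with
  | bot => exact bot_le
  | coe a =>
    have h' : ((a + 1 : ℕ∞) : WithBot ℕ∞) ≤ (((n : ℕ∞) + 1 : ℕ∞) : WithBot ℕ∞) := by
      exact_mod_cast h
    rw [WithBot.coe_le_coe] at h'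
    have h2 : a ≤ (n : ℕ∞) := (ENat.add_le_add_iff_right (by simp)).mp h'
    exact_mod_cast h2

variable {k : Type u} [Field k] {R : Type u} [CommRing R] [Algebra k R]
  {𝒜 : ℤ → Submodule k R} [GradedAlgebra 𝒜]

/-- modulo an ideal containing all positive homogeneous elements, everything is a scalar -/
theorem exists_sub_algebraMap_mem (hpos : ∀ n : ℤ, n < 0 → 𝒜 n = ⊥)
    (h0 : 𝒜 0 = Submodule.span k {(1 : R)}) (Q : Ideal R)
    (hQ : ∀ x, IsPosHom 𝒜 x → x ∈ Q) (z : R) : ∃ c : k, z - algebraMap k R c ∈ Q := by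
  induction z using DirectSum.Decomposition.inductionOn 𝒜 with
  | zero => exact ⟨0, by simp⟩
  | @homogeneous n m =>
    rcases lt_trichotomy n 0 with hn | hn | hn
    · refine ⟨0, ?_⟩
      rw [eq_zero_of_mem_neg hpos hn m.2]
      simp
    · subst hn
      have hm : (m : R) ∈ Submodule.span k {(1 : R)} := h0 ▸ m.2
      rw [Submodule.mem_span_singleton] at hm
      obtain ⟨c, hc⟩ := hm
      refine ⟨c, ?_⟩
      rw [← hc, Algebra.algebraMap_eq_smul_one, sub_self]
      exact Ideal.zero_mem _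
    · refine ⟨0, ?_⟩
      rw [map_zero, sub_zero]
      exact hQ _ ⟨n, hn, m.2⟩
  | add m m' ih ih' =>
    obtain ⟨c, hc⟩ := ih
    obtain ⟨c', hc'⟩ := ih'
    refine ⟨c + c', ?_⟩
    have : m + m' - algebraMap k R (c + c') = (m - algebraMap k R c) + (m' - algebraMap k R c') := by
      rw [map_add]; ring
    rw [this]
    exact Ideal.add_mem _ hc hc'

/-- a prime containing all positive homogeneous elements has a zero-dimensional quotient -/
theorem ringKrullDim_quotient_le_zero_of_irrelevant_le (hpos : ∀ n : ℤ, n < 0 → 𝒜 n = ⊥)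
    (h0 : 𝒜 0 = Submodule.span k {(1 : R)}) (Q : Ideal R)
    (hQ : ∀ x, IsPosHom 𝒜 x → x ∈ Q) : ringKrullDim (R ⧸ Q) ≤ 0 := by
  have hsurj : Function.Surjective (algebraMap k (R ⧸ Q)) := by
    intro z
    obtain ⟨z, rfl⟩ := Ideal.Quotient.mk_surjective z
    obtain ⟨c, hc⟩ := exists_sub_algebraMap_mem hpos h0 Q hQ z
    refine ⟨c, ?_⟩
    rw [IsScalarTower.algebraMap_apply k R (R ⧸ Q)]
    exact (Ideal.Quotient.eq.mpr hc).symm
  calc ringKrullDim (R ⧸ Q) ≤ ringKrullDim k := ringKrullDim_le_of_surjective _ hsurj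
    _ = 0 := ringKrullDim_eq_zero_of_field k

/-- existence of homogeneous parameters modulo an ideal -/
theorem exists_hsop_quotient (hpos : ∀ n : ℤ, n < 0 → 𝒜 n = ⊥)
    (h0 : 𝒜 0 = Submodule.span k {(1 : R)}) [IsNoetherianRing R] :
    ∀ (n : ℕ) (I : Ideal R), ringKrullDim (R ⧸ I) ≤ n →
      ∃ x : Fin n → R, (∀ i, IsPosHom 𝒜 (x i)) ∧
        ringKrullDim (R ⧸ (I ⊔ Ideal.span (Set.range x))) ≤ 0 := by
  intro n
  induction n with
  | zero =>
    intro I hI
    refine ⟨Fin.elim0, fun i => i.elim0, ?_⟩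
    have : Set.range (Fin.elim0 : Fin 0 → R) = ∅ := Set.range_eq_empty _
    rw [this, Ideal.span_empty, sup_bot_eq]
    exact_mod_cast hI
  | succ n ih =>
    intro I hI
    classical
    have hfin := Ideal.finite_minimalPrimes_of_isNoetherianRing R I
    set M := hfin.toFinset.filter (fun p => ∃ x, IsPosHom 𝒜 x ∧ x ∉ p) with hM
    obtain ⟨x, hx, hxM⟩ := exists_posHom_notMem hpos M
      (fun p hp => by
        rw [hM, Finset.mem_filter, Set.Finite.mem_toFinset] at hp
        exact hp.1.1.1)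
      (fun p hp => by
        rw [hM, Finset.mem_filter] at hp
        exact hp.2)
    have hdim : ringKrullDim (R ⧸ (I ⊔ Ideal.span {x})) ≤ n := by
      apply ringKrullDim_quotient_le_of_forall_prime
      intro Q hQ hle
      have hIQ : I ≤ Q := le_sup_left.trans hle
      have hxQ : x ∈ Q := hle (Ideal.mem_sup_right (Ideal.mem_span_singleton_self x))
      obtain ⟨p, hp, hpQ⟩ := Ideal.exists_minimalPrimes_le hIQ
      haveI : p.IsPrime := hp.1.1
      by_cases hirr : ∃ y, IsPosHom 𝒜 y ∧ y ∉ p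
      · have hpM : p ∈ M := by
          rw [hM, Finset.mem_filter]
          exact ⟨hfin.mem_toFinset.mpr hp, hirr⟩
        have hxp := hxM p hpM
        have h1 := ringKrullDim_quotient_succ_le_of_le_of_notMem hpQ hxQ hxp
        have h2 : ringKrullDim (R ⧸ p) ≤ ringKrullDim (R ⧸ I) :=
          ringKrullDim_le_of_surjective (Ideal.Quotient.factor hp.1.2)
            (Ideal.Quotient.factor_surjective _)
        have h3 : ringKrullDim (R ⧸ Q) + 1 ≤ (n : WithBot ℕ∞) + 1 :=
          h1.trans (h2.trans (by exact_mod_cast hI))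
        exact withBot_enat_le_of_add_one_le h3
      · push Not at hirr
        have : ringKrullDim (R ⧸ Q) ≤ 0 :=
          ringKrullDim_quotient_le_zero_of_irrelevant_le hpos h0 Q (fun y hy => hpQ (hirr y hy))
        exact this.trans (by exact_mod_cast Nat.zero_le n)
    obtain ⟨x', hx', hdim'⟩ := ih _ hdim
    refine ⟨Fin.cons x x', ?_, ?_⟩
    · intro i
      refine Fin.cases ?_ (fun j => ?_) i
      · simpa using hx
      · simpa using hx' j
    · have : I ⊔ Ideal.span (Set.range (Fin.cons x x' : Fin (n + 1) → R)) =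
          (I ⊔ Ideal.span {x}) ⊔ Ideal.span (Set.range x') := by
        rw [Fin.range_cons, Ideal.span_insert, sup_assoc]
      rwa [this]

end Groth.Agent.Lib.Helper6.SegDim
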