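import Mathlib
import Groth.Agent.Lib.Helper6.SegDim.SDc
import Groth.Agent.Lib.Helper4.DimFT1

/-!
# Graded Noether normalisation with generators of a common degree (helper6)
-/

set_option autoImplicit false
set_option linter.unusedSectionVars false
set_option linter.unusedVariables false
set_option linter.unusedSimpArgs false
set_option linter.style.haveILetI false
set_option maxHeartbeats 400000

universe u

namespace Groth.Agent.Lib.Helper6.SegDim

open DirectSum

variable {k : Type u} [Field k] {R : Type u} [CommRing R] [Algebra k R]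
  {𝒜 : ℤ → Submodule k R} [GradedAlgebra 𝒜]

/-- graded Nakayama -/
theorem nakayama_graded (hpos : ∀ n : ℤ, n < 0 → 𝒜 n = ⊥) {n : ℕ} (x : Fin n → R)
    (hx : ∀ i, IsPosHom 𝒜 (x i))
    (V : Submodule k R) (hV : ∀ v ∈ V, ∀ m, GradedAlgebra.proj 𝒜 m v ∈ V)
    (hVJ : ∀ z : R, ∃ v ∈ V, z - v ∈ Ideal.span (Set.range x))
    (N : Submodule (Algebra.adjoin k (Set.range x)) R) (hVN : ∀ v ∈ V, v ∈ N) : N = ⊤ := by
  classical
  choose d hd hxd using hx
  have key : ∀ m : ℕ, ∀ e : ℤ, e < m → ∀ z ∈ 𝒜 e, z ∈ N := by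
    intro m
    induction m with
    | zero =>
      intro e he z hz
      rw [eq_zero_of_mem_neg hpos (by exact_mod_cast he) hz]
      exact N.zero_mem
    | succ m ih =>
      intro e he z hz
      by_cases hlt : e < m
      · exact ih e hlt z hz
      have hem : e = m := by push_cast at he; omega
      obtain ⟨v, hvV, hvJ⟩ := hVJ z
      obtain ⟨w, hw⟩ := Ideal.mem_span_range_iff_exists_fun.mp hvJ
      have hz1 : z = GradedAlgebra.proj 𝒜 e v + ∑ i, GradedAlgebra.proj 𝒜 e (w i * x i) := by
        have h1 : GradedAlgebra.proj 𝒜 e z = z := by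
          rw [GradedAlgebra.proj_apply, DirectSum.decompose_of_mem_same 𝒜 hz]
        have h2 : z = v + ∑ i, w i * x i := by rw [hw]; ring
        conv_lhs => rw [← h1, h2]
        rw [map_add, map_sum]
      rw [hz1]
      refine N.add_mem (hVN _ (hV v hvV e)) (N.sum_mem fun i _ => ?_)
      have h3 : GradedAlgebra.proj 𝒜 e (w i * x i) =
          (DirectSum.decompose 𝒜 (w i) (e - d i) : R) * x i := by
        have := DirectSum.coe_decompose_mul_add_of_right_mem 𝒜 (i := e - d i) (hxd i) (a := w i)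
        rw [sub_add_cancel] at this
        rw [GradedAlgebra.proj_apply, this]
      rw [h3]
      have h4 : (DirectSum.decompose 𝒜 (w i) (e - d i) : R) ∈ N :=
        ih (e - d i) (by have := hd i; omega) _ (DirectSum.decompose 𝒜 (w i) (e - d i)).2
      have h5 : (DirectSum.decompose 𝒜 (w i) (e - d i) : R) * x i =
          (⟨x i, Algebra.subset_adjoin ⟨i, rfl⟩⟩ : Algebra.adjoin k (Set.range x)) •
            (DirectSum.decompose 𝒜 (w i) (e - d i) : R) := by
        rw [Subalgebra.smul_def, smul_eq_mul, mul_comm]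
      rw [h5]
      exact N.smul_mem _ h4
  rw [eq_top_iff]
  intro z _
  rw [← DirectSum.sum_support_decompose 𝒜 z]
  refine N.sum_mem fun e _ => ?_
  exact key (e.toNat + 1) e (by push_cast; omega) _ (DirectSum.decompose 𝒜 z e).2

theorem finite_over_adjoin (hpos : ∀ n : ℤ, n < 0 → 𝒜 n = ⊥) {n : ℕ} (x : Fin n → R)
    (hx : ∀ i, IsPosHom 𝒜 (x i))
    [hfin : Module.Finite k (R ⧸ Ideal.span (Set.range x))] :
    Module.Finite (Algebra.adjoin k (Set.range x)) R := by
  classical
  set J := Ideal.span (Set.range x) with hJ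
  obtain ⟨s, hs⟩ := Module.finite_def.mp hfin
  let lift : R ⧸ J → R := Function.surjInv Ideal.Quotient.mk_surjective
  have hlift : ∀ q, Ideal.Quotient.mk J (lift q) = q := Function.surjInv_eq _
  let H : Finset R := s.biUnion (fun q => (DFinsupp.support (DirectSum.decompose 𝒜 (lift q))).image
    (fun i => (DirectSum.decompose 𝒜 (lift q) i : R)))
  have hHhom : ∀ h ∈ H, ∃ i, h ∈ 𝒜 i := by
    intro h hh
    simp only [H, Finset.mem_biUnion, Finset.mem_image] at hh
    obtain ⟨q, _, i, _, rfl⟩ := hh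
    exact ⟨i, (DirectSum.decompose 𝒜 (lift q) i).2⟩
  have hliftH : ∀ q ∈ s, lift q ∈ Submodule.span k (H : Set R) := by
    intro q hq
    rw [← DirectSum.sum_support_decompose 𝒜 (lift q)]
    refine Submodule.sum_mem _ fun i hi => Submodule.subset_span ?_
    rw [Finset.mem_coe]
    simp only [H, Finset.mem_biUnion, Finset.mem_image]
    exact ⟨q, hq, i, hi, rfl⟩
  set V := Submodule.span k (H : Set R) with hVdef
  have hV : ∀ v ∈ V, ∀ m, GradedAlgebra.proj 𝒜 m v ∈ V := by
    intro v hv m
    induction hv using Submodule.span_induction with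
    | mem h hh =>
      obtain ⟨i, hi⟩ := hHhom h hh
      rw [GradedAlgebra.proj_apply]
      by_cases him : i = m
      · subst him
        rw [DirectSum.decompose_of_mem_same 𝒜 hi]
        exact Submodule.subset_span hh
      · rw [DirectSum.decompose_of_mem_ne 𝒜 hi him]
        exact Submodule.zero_mem _
    | zero => rw [map_zero]; exact Submodule.zero_mem _
    | add a b _ _ ha hb => rw [map_add]; exact Submodule.add_mem _ ha hb
    | smul c a _ ha => rw [map_smul]; exact Submodule.smul_mem _ _ ha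
  have hq : ∀ q ∈ Submodule.span k (s : Set (R ⧸ J)), ∃ v ∈ V, Ideal.Quotient.mk J v = q := by
    intro q hq
    induction hq using Submodule.span_induction with
    | mem q hq => exact ⟨lift q, hliftH q hq, hlift q⟩
    | zero => exact ⟨0, V.zero_mem, map_zero _⟩
    | add a b _ _ ha hb =>
      obtain ⟨va, hva, ha⟩ := ha
      obtain ⟨vb, hvb, hb⟩ := hb
      exact ⟨va + vb, V.add_mem hva hvb, by rw [map_add, ha, hb]⟩
    | smul c a _ ha =>
      obtain ⟨va, hva, ha⟩ := ha
      refine ⟨c • va, V.smul_mem c hva, ?_⟩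
      rw [← ha]
      exact map_smul (Ideal.Quotient.mkₐ k J) c va
  have hVJ : ∀ z : R, ∃ v ∈ V, z - v ∈ J := by
    intro z
    obtain ⟨v, hv, hvz⟩ := hq (Ideal.Quotient.mk J z) (by rw [hs]; trivial)
    exact ⟨v, hv, Ideal.Quotient.eq.mp hvz.symm⟩
  have hN := nakayama_graded hpos x hx V hV hVJ (Submodule.span _ (H : Set R)) (by
    intro v hv
    induction hv using Submodule.span_induction with
    | mem h hh => exact Submodule.subset_span hh
    | zero => exact Submodule.zero_mem _
    | add a b _ _ ha hb => exact Submodule.add_mem _ ha hb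
    | smul c a _ ha =>
      rw [← algebraMap_smul (Algebra.adjoin k (Set.range x)) c a]
      exact Submodule.smul_mem _ _ ha)
  exact ⟨⟨H, hN⟩⟩

theorem isIntegral_over_adjoin (hpos : ∀ n : ℤ, n < 0 → 𝒜 n = ⊥) [Algebra.FiniteType k R]
    {n : ℕ} (x : Fin n → R) (hx : ∀ i, IsPosHom 𝒜 (x i))
    (hdim : ringKrullDim (R ⧸ Ideal.span (Set.range x)) ≤ 0) :
    Algebra.IsIntegral (Algebra.adjoin k (Set.range x)) R := by
  set J := Ideal.span (Set.range x) with hJ
  haveI : Algebra.FiniteType k (R ⧸ J) :=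
    Algebra.FiniteType.of_surjective (Ideal.Quotient.mkₐ k J) (Ideal.Quotient.mkₐ_surjective k J)
  haveI : Ring.KrullDimLE 0 (R ⧸ J) := Ring.krullDimLE_iff.mpr (by exact_mod_cast hdim)
  haveI : Module.Finite k (R ⧸ J) := (Module.finite_iff_krullDimLE_zero k (R ⧸ J)).mpr inferInstance
  haveI := finite_over_adjoin hpos x hx
  exact Algebra.IsIntegral.of_finite _ _

theorem ringKrullDim_quotient_pow_le {n : ℕ} (x : Fin n → R) (e : Fin n → ℕ)
    (hdim : ringKrullDim (R ⧸ Ideal.span (Set.range x)) ≤ 0) :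
    ringKrullDim (R ⧸ Ideal.span (Set.range fun i => x i ^ e i)) ≤ 0 := by
  apply ringKrullDim_quotient_le_of_forall_prime
  intro Q hQ hle
  have hxQ : Ideal.span (Set.range x) ≤ Q := by
    rw [Ideal.span_le]
    rintro _ ⟨i, rfl⟩
    exact hQ.mem_of_pow_mem (e i) (hle (Ideal.subset_span ⟨i, rfl⟩))
  exact (ringKrullDim_le_of_surjective (Ideal.Quotient.factor hxQ)
    (Ideal.Quotient.factor_surjective _)).trans hdim

theorem algebraicIndependent_of_isIntegral_of_dim {n : ℕ} (x : Fin n → R)
    [Algebra.IsIntegral (Algebra.adjoin k (Set.range x)) R] (hdim : ringKrullDim R = n) :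
    AlgebraicIndependent k x := by
  have hAR : ringKrullDim R = ringKrullDim (Algebra.adjoin k (Set.range x)) :=
    Groth.Agent.Lib.Helper4.DimFT1.ringKrullDim_eq_of_isIntegral_of_injective
      (Algebra.adjoin k (Set.range x)) R Subtype.val_injective
  rw [algebraicIndependent_iff_injective_aeval, injective_iff_map_eq_zero]
  intro f hf
  by_contra hne
  let φ : MvPolynomial (Fin n) k →ₐ[k] Algebra.adjoin k (Set.range x) :=
    (MvPolynomial.aeval x).codRestrict _ (fun p => by
      rw [Algebra.adjoin_range_eq_range_aeval]; exact ⟨p, rfl⟩)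
  have hφsurj : Function.Surjective φ := by
    rintro ⟨a, ha⟩
    have ha' := ha
    rw [Algebra.adjoin_range_eq_range_aeval] at ha'
    obtain ⟨p, hp⟩ := ha'
    exact ⟨p, Subtype.ext hp⟩
  have hφf : φ f = 0 := Subtype.ext hf
  let g : MvPolynomial (Fin n) k ⧸ Ideal.span {f} →+* Algebra.adjoin k (Set.range x) :=
    Ideal.Quotient.lift _ φ.toRingHom (by
      intro a ha
      obtain ⟨c, rfl⟩ := Ideal.mem_span_singleton'.mp ha
      show φ (c * f) = 0
      rw [map_mul, hφf, mul_zero])
  have hg : Function.Surjective g := Ideal.Quotient.lift_surjective_of_surjective _ _ hφsurj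
  have h1 := ringKrullDim_le_of_surjective g hg
  have h2 := ringKrullDim_quotient_succ_le_of_nonZeroDivisor (mem_nonZeroDivisors_of_ne_zero hne)
  have h3 : ringKrullDim (MvPolynomial (Fin n) k) = n := by
    rw [MvPolynomial.ringKrullDim_of_isNoetherianRing, ringKrullDim_eq_zero_of_field, zero_add,
      Nat.card_eq_fintype_card, Fintype.card_fin]
  rw [h3] at h2
  have h4 : (n : WithBot ℕ∞) + 1 ≤ n := by
    calc (n : WithBot ℕ∞) + 1 = ringKrullDim (Algebra.adjoin k (Set.range x)) + 1 := by
          rw [← hAR, hdim]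
      _ ≤ ringKrullDim (MvPolynomial (Fin n) k ⧸ Ideal.span {f}) + 1 := by gcongr
      _ ≤ n := h2
  have h5 : n + 1 ≤ n := by exact_mod_cast h4
  omega

/-- **Graded Noether normalisation** with parameters of a common degree -/
theorem exists_homogeneous_noether (hpos : ∀ n : ℤ, n < 0 → 𝒜 n = ⊥)
    (h0 : 𝒜 0 = Submodule.span k {(1 : R)}) [Algebra.FiniteType k R] (r : ℕ)
    (hr : ringKrullDim R = r) :
    ∃ D : ℕ, 0 < D ∧ ∀ m : ℕ, 0 < m → ∃ x : Fin r → R, (∀ i, x i ∈ 𝒜 ((m * D : ℕ) : ℤ)) ∧
      Algebra.IsIntegral (Algebra.adjoin k (Set.range x)) R ∧ AlgebraicIndependent k x := by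
  classical
  haveI : IsNoetherianRing R := Algebra.FiniteType.isNoetherianRing k R
  have hbot : ringKrullDim (R ⧸ (⊥ : Ideal R)) ≤ r := by
    rw [ringKrullDim_eq_of_ringEquiv (RingEquiv.quotientBot R), hr]
  obtain ⟨x, hx, hdim⟩ := exists_hsop_quotient hpos h0 r ⊥ hbot
  rw [bot_sup_eq] at hdim
  choose d hd hxd using hx
  set dn : Fin r → ℕ := fun i => (d i).toNat with hdn
  have hdn_pos : ∀ i, 0 < dn i := fun i => by
    have := hd i
    simp only [hdn]; omega
  have hdn_eq : ∀ i, ((dn i : ℕ) : ℤ) = d i := fun i => Int.toNat_of_nonneg (hd i).le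
  refine ⟨∏ i, dn i, Finset.prod_pos (fun i _ => hdn_pos i), fun m hm => ?_⟩
  set e : Fin r → ℕ := fun i => m * ∏ j ∈ Finset.univ.erase i, dn j with he
  have hdeg : ∀ i, x i ^ e i ∈ 𝒜 ((m * ∏ i, dn i : ℕ) : ℤ) := by
    intro i
    have h1 : x i ^ e i ∈ 𝒜 (e i • d i) := SetLike.pow_mem_graded _ (hxd i)
    have h2 : e i • d i = ((m * ∏ i, dn i : ℕ) : ℤ) := by
      rw [nsmul_eq_mul, ← hdn_eq i, ← Nat.cast_mul, he]
      congr 1
      rw [mul_assoc, mul_comm (∏ j ∈ Finset.univ.erase i, dn j) (dn i),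
        Finset.mul_prod_erase Finset.univ dn (Finset.mem_univ i)]
    rwa [h2] at h1
  have hposD : 0 < m * ∏ i, dn i := Nat.mul_pos hm (Finset.prod_pos (fun i _ => hdn_pos i))
  have hdim' := ringKrullDim_quotient_pow_le x e hdim
  have hint := isIntegral_over_adjoin hpos (fun i => x i ^ e i)
    (fun i => ⟨_, by exact_mod_cast hposD, hdeg i⟩) hdim'
  exact ⟨fun i => x i ^ e i, hdeg, hint, algebraicIndependent_of_isIntegral_of_dim _ hr⟩

end Groth.Agent.Lib.Helper6.SegDim
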