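import Mathlib

/-!
# Bigraded projections on a tensor product and integrality of the Segre product (helper6)
-/

set_option autoImplicit false
set_option linter.unusedSectionVars false
set_option linter.unusedVariables false
set_option linter.unusedSimpArgs false
set_option linter.style.haveILetI false
set_option maxHeartbeats 400000

universe u

namespace Groth.Agent.Lib.Helper6.SegDim

open scoped TensorProduct
open DirectSum

section BiProj

variable {k : Type u} [Field k] {R S : Type u} [CommRing R] [Algebra k R] [CommRing S]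
  [Algebra k S]
  (𝒜 : ℤ → Submodule k R) [GradedAlgebra 𝒜] (ℬ : ℤ → Submodule k S) [GradedAlgebra ℬ]

/-- the bigraded projection of `R ⊗ S` -/
noncomputable def biProj (p q : ℤ) : R ⊗[k] S →ₗ[k] R ⊗[k] S :=
  TensorProduct.map (GradedAlgebra.proj 𝒜 p) (GradedAlgebra.proj ℬ q)

theorem biProj_tmul (p q : ℤ) (u : R) (v : S) :
    biProj 𝒜 ℬ p q (u ⊗ₜ[k] v) =
      (GradedAlgebra.proj 𝒜 p u) ⊗ₜ[k] (GradedAlgebra.proj ℬ q v) :=
  TensorProduct.map_tmul _ _ _ _

variable {𝒜 ℬ}

theorem proj_of_mem {n : ℤ} {a : R} (ha : a ∈ 𝒜 n) : GradedAlgebra.proj 𝒜 n a = a := by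
  rw [GradedAlgebra.proj_apply, DirectSum.decompose_of_mem_same 𝒜 ha]

theorem proj_of_mem_ne {n m : ℤ} {a : R} (ha : a ∈ 𝒜 n) (h : n ≠ m) :
    GradedAlgebra.proj 𝒜 m a = 0 := by
  rw [GradedAlgebra.proj_apply, DirectSum.decompose_of_mem_ne 𝒜 ha h]

theorem proj_mul_of_mem {n : ℤ} {a : R} (ha : a ∈ 𝒜 n) (p : ℤ) (u : R) :
    GradedAlgebra.proj 𝒜 (p + n) (u * a) = GradedAlgebra.proj 𝒜 p u * a := by
  rw [GradedAlgebra.proj_apply, GradedAlgebra.proj_apply,
    DirectSum.coe_decompose_mul_add_of_right_mem 𝒜 ha]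

theorem biProj_mul_tmul {n m : ℤ} {a : R} {b : S} (ha : a ∈ 𝒜 n) (hb : b ∈ ℬ m) (p q : ℤ)
    (c : R ⊗[k] S) :
    biProj 𝒜 ℬ (p + n) (q + m) (c * (a ⊗ₜ[k] b)) = biProj 𝒜 ℬ p q c * (a ⊗ₜ[k] b) := by
  induction c using TensorProduct.induction_on with
  | zero => simp
  | tmul u v =>
    rw [Algebra.TensorProduct.tmul_mul_tmul, biProj_tmul, biProj_tmul,
      Algebra.TensorProduct.tmul_mul_tmul, proj_mul_of_mem ha, proj_mul_of_mem hb]
  | add c c' h h' => rw [add_mul, map_add, map_add, add_mul, h, h']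

theorem biProj_zero_one : biProj 𝒜 ℬ 0 0 (1 : R ⊗[k] S) = 1 := by
  rw [Algebra.TensorProduct.one_def, biProj_tmul,
    proj_of_mem (SetLike.GradedOne.one_mem : (1 : R) ∈ 𝒜 0),
    proj_of_mem (SetLike.GradedOne.one_mem : (1 : S) ∈ ℬ 0)]

/-- descent of integrality along the diagonal projections -/
theorem isIntegral_of_biProj (P C : Subalgebra k (R ⊗[k] S))
    (hCP : ∀ c ∈ C, ∀ p : ℤ, biProj 𝒜 ℬ p p c ∈ P)
    {n : ℤ} {a : R} {b : S} (ha : a ∈ 𝒜 n) (hb : b ∈ ℬ n)
    (hint : IsIntegral C (a ⊗ₜ[k] b)) : IsIntegral P (a ⊗ₜ[k] b) := by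
  obtain ⟨f, hmonic, hf⟩ := hint
  set L := f.natDegree with hL
  set z : R ⊗[k] S := a ⊗ₜ[k] b with hzdef
  have hz : ∀ l : ℕ, z ^ l = (a ^ l) ⊗ₜ[k] (b ^ l) := fun l =>
    Algebra.TensorProduct.tmul_pow a b l
  let c' : ℕ → P := fun l =>
    ⟨biProj 𝒜 ℬ ((L - l) • n) ((L - l) • n) ((f.coeff l : C) : R ⊗[k] S),
      hCP _ (f.coeff l).2 _⟩
  have hterm : ∀ l ∈ Finset.range (L + 1),
      biProj 𝒜 ℬ (L • n) (L • n) (((f.coeff l : C) : R ⊗[k] S) * z ^ l) =
        ((c' l : P) : R ⊗[k] S) * z ^ l := by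
    intro l hl
    have hlL : l ≤ L := Nat.lt_succ_iff.mp (Finset.mem_range.mp hl)
    have e : L • n = (L - l) • n + l • n := by rw [← add_nsmul, Nat.sub_add_cancel hlL]
    rw [hz, e]
    exact biProj_mul_tmul (SetLike.pow_mem_graded l ha) (SetLike.pow_mem_graded l hb) _ _ _
  have hsum : ∑ l ∈ Finset.range (L + 1), ((c' l : P) : R ⊗[k] S) * z ^ l = 0 := by
    rw [← Finset.sum_congr rfl hterm, ← map_sum]
    have : ∑ l ∈ Finset.range (L + 1), ((f.coeff l : C) : R ⊗[k] S) * z ^ l = 0 := by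
      rw [← hf, Polynomial.eval₂_eq_sum_range]
      rfl
    rw [this, map_zero]
  have hcL : ((c' L : P) : R ⊗[k] S) = 1 := by
    show biProj 𝒜 ℬ ((L - L) • n) ((L - L) • n) ((f.coeff L : C) : R ⊗[k] S) = 1
    rw [Nat.sub_self, zero_smul, hL, hmonic.coeff_natDegree]
    exact biProj_zero_one
  refine ⟨Polynomial.X ^ L + ∑ l ∈ Finset.range L, Polynomial.C (c' l) * Polynomial.X ^ l,
    ?_, ?_⟩
  · apply Polynomial.monic_X_pow_add
    refine lt_of_le_of_lt (Polynomial.degree_sum_le _ _) ?_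
    refine (Finset.sup_lt_iff (WithBot.bot_lt_coe L)).mpr ?_
    intro l hl
    exact lt_of_le_of_lt (Polynomial.degree_C_mul_X_pow_le l _)
      (WithBot.coe_lt_coe.mpr (Finset.mem_range.mp hl))
  · rw [Polynomial.eval₂_add, Polynomial.eval₂_pow, Polynomial.eval₂_X,
      Polynomial.eval₂_finsetSum]
    simp only [Polynomial.eval₂_mul, Polynomial.eval₂_C, Polynomial.eval₂_pow,
      Polynomial.eval₂_X]
    rw [Finset.sum_range_succ, hcL, one_mul] at hsum
    rw [add_comm]
    exact hsum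

end BiProj

section Lists

variable {k : Type u} [Field k] {R S : Type u} [CommRing R] [Algebra k R] [CommRing S]
  [Algebra k S]
  {𝒜 : ℤ → Submodule k R} [GradedAlgebra 𝒜] {ℬ : ℤ → Submodule k S} [GradedAlgebra ℬ]
  {ι κ : Type} (x : ι → R) (y : κ → S) {D : ℤ}

theorem listProd_mem (hx : ∀ i, x i ∈ 𝒜 D) (l : List ι) :
    (l.map x).prod ∈ 𝒜 (l.length • D) := by
  induction l with
  | nil =>
    rw [List.map_nil, List.prod_nil, List.length_nil, zero_smul]
    exact SetLike.GradedOne.one_mem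
  | cons i l ih =>
    rw [List.map_cons, List.prod_cons, List.length_cons, succ_nsmul']
    exact SetLike.GradedMul.mul_mem (hx i) ih

theorem exists_list_of_mem_closure {u : R} (hu : u ∈ Submonoid.closure (Set.range x)) :
    ∃ l : List ι, u = (l.map x).prod := by
  induction hu using Submonoid.closure_induction with
  | mem u hu =>
    obtain ⟨i, rfl⟩ := hu
    exact ⟨[i], by simp⟩
  | one => exact ⟨[], by simp⟩
  | mul u v _ _ hu hv =>
    obtain ⟨l, rfl⟩ := hu
    obtain ⟨l', rfl⟩ := hv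
    exact ⟨l ++ l', by simp⟩

/-- the subalgebra of `R ⊗ S` generated by the `x i ⊗ y j` -/
noncomputable def segP : Subalgebra k (R ⊗[k] S) :=
  Algebra.adjoin k (Set.range fun ij : ι × κ => x ij.1 ⊗ₜ[k] y ij.2)

theorem listProd_tmul_mem : ∀ (l : List ι) (l' : List κ), l.length = l'.length →
    (l.map x).prod ⊗ₜ[k] (l'.map y).prod ∈ segP (k := k) x y
  | [], [], _ => by
    rw [List.map_nil, List.prod_nil, List.map_nil, List.prod_nil, ← Algebra.TensorProduct.one_def]
    exact Subalgebra.one_mem _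
  | [], _ :: _, h => by simp at h
  | _ :: _, [], h => by simp at h
  | i :: l, j :: l', h => by
    rw [List.map_cons, List.prod_cons, List.map_cons, List.prod_cons,
      ← Algebra.TensorProduct.tmul_mul_tmul]
    exact Subalgebra.mul_mem _ (Algebra.subset_adjoin ⟨(i, j), rfl⟩)
      (listProd_tmul_mem l l' (by simpa using h))

theorem biProj_tmul_mem_segP (hD : 0 < D) (hx : ∀ i, x i ∈ 𝒜 D) (hy : ∀ j, y j ∈ ℬ D)
    {u : R} (hu : u ∈ Algebra.adjoin k (Set.range x))
    {v : S} (hv : v ∈ Algebra.adjoin k (Set.range y)) (p : ℤ) :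
    biProj 𝒜 ℬ p p (u ⊗ₜ[k] v) ∈ segP (k := k) x y := by
  have hmono : ∀ (l : List ι) (l' : List κ),
      biProj 𝒜 ℬ p p ((l.map x).prod ⊗ₜ[k] (l'.map y).prod) ∈ segP (k := k) x y := by
    intro l l'
    have h1 := listProd_mem x hx l
    have h2 := listProd_mem y hy l'
    rw [biProj_tmul]
    by_cases hp1 : l.length • D = p
    · by_cases hp2 : l'.length • D = p
      · have hlen : l.length = l'.length := by
          have : (l.length : ℤ) * D = (l'.length : ℤ) * D := by
            rw [← nsmul_eq_mul, ← nsmul_eq_mul, hp1, hp2]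
          exact_mod_cast mul_right_cancel₀ hD.ne' this
        rw [proj_of_mem (hp1 ▸ h1), proj_of_mem (hp2 ▸ h2)]
        exact listProd_tmul_mem x y l l' hlen
      · rw [proj_of_mem_ne h2 hp2, TensorProduct.tmul_zero]
        exact Subalgebra.zero_mem _
    · rw [proj_of_mem_ne h1 hp1, TensorProduct.zero_tmul]
      exact Subalgebra.zero_mem _
  have hu' : u ∈ Submodule.span k (Submonoid.closure (Set.range x) : Set R) := by
    rw [← Algebra.adjoin_eq_span]; exact hu
  have hv' : v ∈ Submodule.span k (Submonoid.closure (Set.range y) : Set S) := by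
    rw [← Algebra.adjoin_eq_span]; exact hv
  clear hu hv
  induction hu' using Submodule.span_induction with
  | mem u hu =>
    obtain ⟨l, rfl⟩ := exists_list_of_mem_closure x hu
    induction hv' using Submodule.span_induction with
    | mem v hv =>
      obtain ⟨l', rfl⟩ := exists_list_of_mem_closure y hv
      exact hmono l l'
    | zero => rw [TensorProduct.tmul_zero, map_zero]; exact Subalgebra.zero_mem _
    | add v v' _ _ h h' => rw [TensorProduct.tmul_add, map_add]; exact Subalgebra.add_mem _ h h'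
    | smul c v _ h => rw [TensorProduct.tmul_smul, map_smul]; exact Subalgebra.smul_mem _ h c
  | zero => rw [TensorProduct.zero_tmul, map_zero]; exact Subalgebra.zero_mem _
  | add u u' _ _ h h' => rw [TensorProduct.add_tmul, map_add]; exact Subalgebra.add_mem _ h h'
  | smul c u _ h =>
    rw [← TensorProduct.smul_tmul', map_smul]; exact Subalgebra.smul_mem _ h c

/-- homogeneous elements of the Segre product are integral over the subalgebra generated by the
`x i ⊗ y j` -/
theorem isIntegral_tmul_segP (hD : 0 < D) (hx : ∀ i, x i ∈ 𝒜 D) (hy : ∀ j, y j ∈ ℬ D)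
    [Algebra.IsIntegral (Algebra.adjoin k (Set.range x)) R]
    [Algebra.IsIntegral (Algebra.adjoin k (Set.range y)) S]
    {n : ℤ} {a : R} {b : S} (ha : a ∈ 𝒜 n) (hb : b ∈ ℬ n) :
    IsIntegral (segP (k := k) x y) (a ⊗ₜ[k] b) := by
  let C : Subalgebra k (R ⊗[k] S) :=
    (Algebra.TensorProduct.map (Algebra.adjoin k (Set.range x)).val
      (Algebra.adjoin k (Set.range y)).val).range
  have hCP : ∀ c ∈ C, ∀ p : ℤ, biProj 𝒜 ℬ p p c ∈ segP (k := k) x y := by
    rintro _ ⟨ξ, rfl⟩ p
    induction ξ using TensorProduct.induction_on with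
    | zero =>
      rw [map_zero, map_zero]; exact Subalgebra.zero_mem _
    | tmul u v =>
      exact biProj_tmul_mem_segP x y hD hx hy u.2 v.2 p
    | add ξ ξ' h h' =>
      rw [map_add, map_add]; exact Subalgebra.add_mem _ h h'
  refine isIntegral_of_biProj (segP (k := k) x y) C hCP ha hb ?_
  have h1 : IsIntegral C ((a ⊗ₜ[k] (1 : S)) : R ⊗[k] S) := by
    let ψ : R →+* R ⊗[k] S := (Algebra.TensorProduct.includeLeft : R →ₐ[k] R ⊗[k] S).toRingHom
    let φ : Algebra.adjoin k (Set.range x) →+* C :=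
      (ψ.comp (Algebra.adjoin k (Set.range x)).val.toRingHom).codRestrict C
        (fun u => ⟨u ⊗ₜ 1, by simp [ψ]⟩)
    have h : (algebraMap C (R ⊗[k] S)).comp φ =
        ψ.comp (algebraMap (Algebra.adjoin k (Set.range x)) R) := RingHom.ext fun u => rfl
    exact IsIntegral.map_of_comp_eq φ ψ h (Algebra.IsIntegral.isIntegral a)
  have h2 : IsIntegral C (((1 : R) ⊗ₜ[k] b) : R ⊗[k] S) := by
    let ψ : S →+* R ⊗[k] S := (Algebra.TensorProduct.includeRight : S →ₐ[k] R ⊗[k] S).toRingHom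
    let φ : Algebra.adjoin k (Set.range y) →+* C :=
      (ψ.comp (Algebra.adjoin k (Set.range y)).val.toRingHom).codRestrict C
        (fun u => ⟨1 ⊗ₜ u, by simp [ψ]⟩)
    have h : (algebraMap C (R ⊗[k] S)).comp φ =
        ψ.comp (algebraMap (Algebra.adjoin k (Set.range y)) S) := RingHom.ext fun u => rfl
    exact IsIntegral.map_of_comp_eq φ ψ h (Algebra.IsIntegral.isIntegral b)
  have h3 := h1.mul h2
  rwa [Algebra.TensorProduct.tmul_mul_tmul, mul_one, one_mul] at h3

end Lists

end Groth.Agent.Lib.Helper6.SegDim
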