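import Mathlib
import Groth.Agent.Lib.Helper4.DimFT1

/-!
# The Krull dimension of the Segre product of two polynomial rings (helper6)

The subalgebra of `k[X_0..X_r, Y_0..Y_s]` generated by the products `X_i Y_j` has Krull dimension
`r + s + 1`.
-/

set_option autoImplicit false
set_option linter.unusedSectionVars false
set_option linter.unusedVariables false
set_option linter.unusedSimpArgs false
set_option linter.style.haveILetI false
set_option maxHeartbeats 400000

universe u

namespace Groth.Agent.Lib.Helper6.SegDim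

open MvPolynomial

section Mono

variable (k : Type u) [Field k] {σ τ : Type} [Fintype τ] [DecidableEq τ] [DecidableEq σ]

/-- the monomial substitution attached to a family of exponent vectors -/
noncomputable def monoMap (e : τ → (σ →₀ ℕ)) : MvPolynomial τ k →ₐ[k] MvPolynomial σ k :=
  AddMonoidAlgebra.mapDomainAlgHom k k (Finsupp.linearCombination ℕ e).toAddMonoidHom

theorem monoMap_X (e : τ → (σ →₀ ℕ)) (t : τ) :
    monoMap k e (X t) = monomial (e t) (1 : k) := by
  simp [MvPolynomial, monoMap, X, monomial]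

theorem monoMap_injective (e : τ → (σ →₀ ℕ))
    (he : Function.Injective (Finsupp.linearCombination ℕ e)) :
    Function.Injective (monoMap k e) :=
  AddMonoidAlgebra.mapDomain_injective he

theorem algebraicIndependent_monomial (e : τ → (σ →₀ ℕ))
    (he : Function.Injective (Finsupp.linearCombination ℕ e)) :
    AlgebraicIndependent k (fun t => monomial (e t) (1 : k)) := by
  have h : (aeval (fun t => monomial (e t) (1 : k)) : MvPolynomial τ k →ₐ[k] MvPolynomial σ k) =
      monoMap k e := by
    apply MvPolynomial.algHom_ext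
    intro t
    rw [aeval_X, monoMap_X]
  show Function.Injective (aeval (fun t => monomial (e t) (1 : k)))
  rw [h]
  exact monoMap_injective k e he

end Mono

section Segre

variable (k : Type u) [Field k] (r s : ℕ)

/-- the variables of the ambient polynomial ring -/
abbrev Var := Fin (r + 1) ⊕ Fin (s + 1)

/-- the index set of the transcendence basis -/
abbrev Tr := Fin (r + 1) ⊕ Fin s

/-- the generators `X_i Y_j` of the Segre product -/
noncomputable def zz (i : Fin (r + 1)) (j : Fin (s + 1)) : MvPolynomial (Var r s) k :=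
  X (Sum.inl i) * X (Sum.inr j)

/-- exponent vectors of the chosen transcendence basis `X_i Y_0`, `X_0 Y_{j+1}` -/
noncomputable def ee : Tr r s → (Var r s →₀ ℕ)
  | Sum.inl i => Finsupp.single (Sum.inl i) 1 + Finsupp.single (Sum.inr 0) 1
  | Sum.inr j => Finsupp.single (Sum.inl 0) 1 + Finsupp.single (Sum.inr j.succ) 1

theorem monomial_ee_inl (i : Fin (r + 1)) :
    monomial (ee r s (Sum.inl i)) (1 : k) = zz k r s i 0 := by
  rw [ee, zz, X, X, monomial_mul, one_mul]

theorem monomial_ee_inr (j : Fin s) :
    monomial (ee r s (Sum.inr j)) (1 : k) = zz k r s 0 j.succ := by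
  rw [ee, zz, X, X, monomial_mul, one_mul]

theorem lc_ee_apply_inr_succ (γ : Tr r s →₀ ℕ) (j : Fin s) :
    Finsupp.linearCombination ℕ (ee r s) γ (Sum.inr j.succ) = γ (Sum.inr j) := by
  rw [Finsupp.linearCombination_apply, Finsupp.sum_fintype _ _ (by intro i; simp),
    Finsupp.finsetSum_apply, Fintype.sum_sum_type]
  have h1 : ∀ i : Fin (r + 1), (γ (Sum.inl i) • ee r s (Sum.inl i)) (Sum.inr j.succ) = 0 := by
    intro i
    simp [ee, Fin.succ_ne_zero, (Fin.succ_ne_zero j).symm]
  have h2 : ∀ j' : Fin s, (γ (Sum.inr j') • ee r s (Sum.inr j')) (Sum.inr j.succ) =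
      if j' = j then γ (Sum.inr j) else 0 := by
    intro j'
    by_cases h : j' = j
    · subst h; simp [ee]
    · have : j'.succ ≠ j.succ := fun h' => h (Fin.succ_injective _ h')
      simp [ee, h, Finsupp.single_apply, this]
  simp only [h1, h2, Finset.sum_const_zero, zero_add, Finset.sum_ite_eq', Finset.mem_univ, if_true]

theorem lc_ee_apply_inl (γ : Tr r s →₀ ℕ) (i : Fin (r + 1)) (hi : i ≠ 0) :
    Finsupp.linearCombination ℕ (ee r s) γ (Sum.inl i) = γ (Sum.inl i) := by
  rw [Finsupp.linearCombination_apply, Finsupp.sum_fintype _ _ (by intro i; simp),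
    Finsupp.finsetSum_apply, Fintype.sum_sum_type]
  have h1 : ∀ i' : Fin (r + 1), (γ (Sum.inl i') • ee r s (Sum.inl i')) (Sum.inl i) =
      if i' = i then γ (Sum.inl i) else 0 := by
    intro i'
    by_cases h : i' = i
    · subst h; simp [ee]
    · simp [ee, h, Finsupp.single_apply]
  have h2 : ∀ j' : Fin s, (γ (Sum.inr j') • ee r s (Sum.inr j')) (Sum.inl i) = 0 := by
    intro j'
    simp [ee, Finsupp.single_apply, hi.symm]
  simp only [h1, h2, Finset.sum_const_zero, add_zero, Finset.sum_ite_eq', Finset.mem_univ, if_true]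

theorem lc_ee_apply_inl_zero (γ : Tr r s →₀ ℕ) :
    Finsupp.linearCombination ℕ (ee r s) γ (Sum.inl 0) =
      γ (Sum.inl 0) + ∑ j : Fin s, γ (Sum.inr j) := by
  rw [Finsupp.linearCombination_apply, Finsupp.sum_fintype _ _ (by intro i; simp),
    Finsupp.finsetSum_apply, Fintype.sum_sum_type]
  have h1 : ∀ i' : Fin (r + 1), (γ (Sum.inl i') • ee r s (Sum.inl i')) (Sum.inl 0) =
      if i' = 0 then γ (Sum.inl 0) else 0 := by
    intro i'
    by_cases h : i' = 0
    · subst h; simp [ee]
    · simp [ee, h, Finsupp.single_apply]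
  have h2 : ∀ j' : Fin s, (γ (Sum.inr j') • ee r s (Sum.inr j')) (Sum.inl 0) = γ (Sum.inr j') := by
    intro j'
    simp [ee, Finsupp.single_apply]
  simp only [h1, h2, Finset.sum_ite_eq', Finset.mem_univ, if_true]

theorem lc_ee_injective : Function.Injective (Finsupp.linearCombination ℕ (ee r s)) := by
  intro γ γ' h
  have hr : ∀ j : Fin s, γ (Sum.inr j) = γ' (Sum.inr j) := by
    intro j
    rw [← lc_ee_apply_inr_succ, ← lc_ee_apply_inr_succ r s γ', h]
  ext t
  rcases t with i | j
  · by_cases hi : i = 0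
    · subst hi
      have h0 := congrArg (fun δ => δ (Sum.inl (0 : Fin (r + 1)))) h
      simp only [lc_ee_apply_inl_zero] at h0
      have : ∑ j : Fin s, γ (Sum.inr j) = ∑ j : Fin s, γ' (Sum.inr j) :=
        Finset.sum_congr rfl (fun j _ => hr j)
      omega
    · rw [← lc_ee_apply_inl r s γ i hi, ← lc_ee_apply_inl r s γ' i hi, h]
  · exact hr j

/-- the transcendence basis `X_i Y_0`, `X_0 Y_{j+1}` -/
noncomputable def ww : Tr r s → MvPolynomial (Var r s) k
  | Sum.inl i => zz k r s i 0
  | Sum.inr j => zz k r s 0 j.succ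

theorem algebraicIndependent_ww : AlgebraicIndependent k (ww k r s) := by
  have h := algebraicIndependent_monomial k (ee r s) (lc_ee_injective r s)
  have : (fun t => monomial (ee r s t) (1 : k)) = ww k r s := by
    funext t
    rcases t with i | j
    · exact monomial_ee_inl k r s i
    · exact monomial_ee_inr k r s j
  rwa [this] at h

/-- the Segre product of the two polynomial rings -/
noncomputable def segreSub : Subalgebra k (MvPolynomial (Var r s) k) :=
  Algebra.adjoin k (Set.range (fun p : Fin (r + 1) × Fin (s + 1) => zz k r s p.1 p.2))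

theorem zz_mem (i : Fin (r + 1)) (j : Fin (s + 1)) : zz k r s i j ∈ segreSub k r s :=
  Algebra.subset_adjoin ⟨(i, j), rfl⟩

theorem ww_mem (t : Tr r s) : ww k r s t ∈ segreSub k r s := by
  rcases t with i | j
  · exact zz_mem k r s i 0
  · exact zz_mem k r s 0 j.succ

/-- the transcendence basis inside the Segre product -/
noncomputable def wS (t : Tr r s) : segreSub k r s := ⟨ww k r s t, ww_mem k r s t⟩

theorem algebraicIndependent_wS : AlgebraicIndependent k (wS k r s) := by
  apply AlgebraicIndependent.of_comp (segreSub k r s).val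
  exact algebraicIndependent_ww k r s

theorem zz_ne_zero (i : Fin (r + 1)) (j : Fin (s + 1)) : zz k r s i j ≠ 0 :=
  mul_ne_zero (X_ne_zero _) (X_ne_zero _)

theorem zz_mul_zz (i : Fin (r + 1)) (j : Fin (s + 1)) :
    zz k r s 0 0 * zz k r s i j = zz k r s i 0 * zz k r s 0 j := by
  simp only [zz]; ring

/-- the generators as elements of the Segre product -/
noncomputable def zS (i : Fin (r + 1)) (j : Fin (s + 1)) : segreSub k r s :=
  ⟨zz k r s i j, zz_mem k r s i j⟩

theorem zS_left_mem (i : Fin (r + 1)) :
    zS k r s i 0 ∈ Algebra.adjoin k (Set.range (wS k r s)) :=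
  Algebra.subset_adjoin ⟨Sum.inl i, rfl⟩

theorem zS_right_mem (j : Fin (s + 1)) :
    zS k r s 0 j ∈ Algebra.adjoin k (Set.range (wS k r s)) := by
  induction j using Fin.cases with
  | zero => exact zS_left_mem k r s 0
  | succ j => exact Algebra.subset_adjoin ⟨Sum.inr j, rfl⟩

theorem isAlgebraic_zS (i : Fin (r + 1)) (j : Fin (s + 1)) :
    IsAlgebraic (Algebra.adjoin k (Set.range (wS k r s))) (zS k r s i j) := by
  have hy : zS k r s 0 0 ∈ nonZeroDivisors (segreSub k r s) := by
    apply mem_nonZeroDivisors_of_ne_zero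
    intro h
    exact zz_ne_zero k r s 0 0 (congrArg Subtype.val h)
  refine IsAlgebraic.of_mul hy ?_ ?_
  · exact isAlgebraic_algebraMap
      (⟨zS k r s 0 0, zS_left_mem k r s 0⟩ : Algebra.adjoin k (Set.range (wS k r s)))
  · have h : zS k r s 0 0 * zS k r s i j = zS k r s i 0 * zS k r s 0 j :=
      Subtype.ext (zz_mul_zz k r s i j)
    rw [h]
    exact isAlgebraic_algebraMap
      (⟨zS k r s i 0 * zS k r s 0 j,
        mul_mem (zS_left_mem k r s i) (zS_right_mem k r s j)⟩ :
        Algebra.adjoin k (Set.range (wS k r s)))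

theorem isAlgebraic_segreSub :
    Algebra.IsAlgebraic (Algebra.adjoin k (Set.range (wS k r s))) (segreSub k r s) := by
  constructor
  rintro ⟨p, hp⟩
  induction hp using Algebra.adjoin_induction with
  | mem x hx =>
    obtain ⟨⟨i, j⟩, rfl⟩ := hx
    exact isAlgebraic_zS k r s i j
  | algebraMap c =>
    exact isAlgebraic_algebraMap
      (algebraMap k (Algebra.adjoin k (Set.range (wS k r s))) c)
  | add x y hx hy ihx ihy =>
    have h : (⟨x + y, add_mem hx hy⟩ : segreSub k r s) = ⟨x, hx⟩ + ⟨y, hy⟩ := Subtype.ext rfl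
    rw [h]
    exact IsAlgebraic.add ihx ihy
  | mul x y hx hy ihx ihy =>
    have h : (⟨x * y, mul_mem hx hy⟩ : segreSub k r s) = ⟨x, hx⟩ * ⟨y, hy⟩ := Subtype.ext rfl
    rw [h]
    exact IsAlgebraic.mul ihx ihy

/-- The Segre product of polynomial rings in `r + 1` and `s + 1` variables has dimension
`r + s + 1`. -/
theorem ringKrullDim_segreSub :
    ringKrullDim (segreSub k r s) = ((r + s + 1 : ℕ) : WithBot ℕ∞) := by
  haveI : Algebra.FiniteType k (segreSub k r s) := by
    rw [← Subalgebra.fg_iff_finiteType, segreSub]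
    exact Subalgebra.fg_def.mpr ⟨_, Set.finite_range _, rfl⟩
  obtain ⟨n, hn1, hn2⟩ := Groth.Agent.Lib.Helper4.DimFT1.exists_dim_eq_trdeg k (segreSub k r s)
  haveI := isAlgebraic_segreSub k r s
  have hb : IsTranscendenceBasis k (wS k r s) :=
    (algebraicIndependent_wS k r s).isTranscendenceBasis_iff_isAlgebraic.mpr inferInstance
  have h1 := hb.lift_cardinalMk_eq_trdeg
  rw [hn1, Cardinal.mk_fintype] at h1
  have h3 : Fintype.card (Tr r s) = n := by
    simp only [Cardinal.lift_natCast] at h1
    exact_mod_cast h1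
  rw [hn2, ← h3]
  simp [Tr]
  ring

end Segre

end Groth.Agent.Lib.Helper6.SegDim
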