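import Mathlib
import Groth.Agent.Lib.Helper6.SegDim.SDa
import Groth.Agent.Lib.Helper6.SegDim.SDd
import Groth.Agent.Lib.Helper6.SegDim.SDe

/-!
# The Krull dimension of a Segre product (helper6)
-/

set_option autoImplicit false
set_option linter.unusedSectionVars false
set_option linter.unusedVariables false
set_option linter.unusedSimpArgs false
set_option linter.style.haveILetI false
set_option maxHeartbeats 400000

universe u

namespace Groth.Agent.Lib.Helper6.SegDim

open scoped TensorProduct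
open DirectSum

theorem ringKrullDim_eq_of_le_of_isIntegral {k B : Type u} [CommRing k] [CommRing B] [Algebra k B]
    (P T' : Subalgebra k B) (h : P ≤ T') (hint : ∀ t ∈ T', IsIntegral P t) :
    ringKrullDim T' = ringKrullDim P := by
  letI : Algebra P T' := (Subalgebra.inclusion h).toRingHom.toAlgebra
  haveI : IsScalarTower P T' B := IsScalarTower.of_algebraMap_eq (fun x => rfl)
  haveI : Algebra.IsIntegral P T' :=
    ⟨fun t => (isIntegral_algHom_iff (IsScalarTower.toAlgHom P T' B)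
      Subtype.val_injective).mp (hint t.1 t.2)⟩
  exact Groth.Agent.Lib.Helper4.DimFT1.ringKrullDim_eq_of_isIntegral_of_injective P T'
    (Subalgebra.inclusion_injective h)

section

variable {k : Type u} [Field k] {R S : Type u} [CommRing R] [Algebra k R] [CommRing S]
  [Algebra k S]

theorem ringKrullDim_segP {r' s' : ℕ} (x : Fin (r' + 1) → R) (y : Fin (s' + 1) → S)
    (hx : AlgebraicIndependent k x) (hy : AlgebraicIndependent k y) :
    ringKrullDim (segP (k := k) x y) = ((r' + s' + 1 : ℕ) : WithBot ℕ∞) := by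
  let Ψ : MvPolynomial (Var r' s') k →ₐ[k] R ⊗[k] S :=
    (Algebra.TensorProduct.map (MvPolynomial.aeval x) (MvPolynomial.aeval y)).comp
      (MvPolynomial.tensorEquivSum k (Fin (r' + 1)) (Fin (s' + 1)) k).symm.toAlgHom
  have hΨinj : Function.Injective Ψ := by
    have hmapinj : Function.Injective
        (Algebra.TensorProduct.map (MvPolynomial.aeval x) (MvPolynomial.aeval y) :
          MvPolynomial (Fin (r' + 1)) k ⊗[k] MvPolynomial (Fin (s' + 1)) k →ₐ[k] R ⊗[k] S) :=
      TensorProduct.map_injective_of_flat_flat (MvPolynomial.aeval x).toLinearMap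
        (MvPolynomial.aeval y).toLinearMap hx hy
    intro a b hab
    exact (MvPolynomial.tensorEquivSum k (Fin (r' + 1)) (Fin (s' + 1)) k).symm.injective
      (hmapinj hab)
  have hΨl : ∀ i, Ψ (MvPolynomial.X (Sum.inl i)) = x i ⊗ₜ[k] (1 : S) := by
    intro i
    have e : (MvPolynomial.tensorEquivSum k (Fin (r' + 1)) (Fin (s' + 1)) k).symm
        (MvPolynomial.X (Sum.inl i)) = MvPolynomial.X i ⊗ₜ 1 := by
      rw [AlgEquiv.symm_apply_eq, MvPolynomial.tensorEquivSum_X_tmul_one]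
    show (Algebra.TensorProduct.map (MvPolynomial.aeval x) (MvPolynomial.aeval y))
      ((MvPolynomial.tensorEquivSum k (Fin (r' + 1)) (Fin (s' + 1)) k).symm
        (MvPolynomial.X (Sum.inl i))) = _
    rw [e, Algebra.TensorProduct.map_tmul, MvPolynomial.aeval_X, map_one]
  have hΨr : ∀ j, Ψ (MvPolynomial.X (Sum.inr j)) = (1 : R) ⊗ₜ[k] y j := by
    intro j
    have e : (MvPolynomial.tensorEquivSum k (Fin (r' + 1)) (Fin (s' + 1)) k).symm
        (MvPolynomial.X (Sum.inr j)) = 1 ⊗ₜ MvPolynomial.X j := by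
      rw [AlgEquiv.symm_apply_eq, MvPolynomial.tensorEquivSum_one_tmul_X]
    show (Algebra.TensorProduct.map (MvPolynomial.aeval x) (MvPolynomial.aeval y))
      ((MvPolynomial.tensorEquivSum k (Fin (r' + 1)) (Fin (s' + 1)) k).symm
        (MvPolynomial.X (Sum.inr j))) = _
    rw [e, Algebra.TensorProduct.map_tmul, MvPolynomial.aeval_X, map_one]
  have hΨzz : ∀ i j, Ψ (zz k r' s' i j) = x i ⊗ₜ[k] y j := by
    intro i j
    rw [zz, map_mul, hΨl, hΨr, Algebra.TensorProduct.tmul_mul_tmul, mul_one, one_mul]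
  have hmap : segP (k := k) x y = (segreSub k r' s').map Ψ := by
    rw [segreSub, AlgHom.map_adjoin, ← Set.range_comp, segP]
    congr 2
    funext ⟨i, j⟩
    exact (hΨzz i j).symm
  rw [hmap, ← ringKrullDim_segreSub k r' s']
  exact (ringKrullDim_eq_of_ringEquiv
    ((segreSub k r' s').equivMapOfInjective Ψ hΨinj).toRingEquiv).symm

/-- **The Krull dimension of a Segre product.** -/
theorem ringKrullDim_segre (𝒜 : ℤ → Submodule k R) [GradedAlgebra 𝒜]
    (hposR : ∀ n : ℤ, n < 0 → 𝒜 n = ⊥) (h0R : 𝒜 0 = Submodule.span k {(1 : R)})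
    [Algebra.FiniteType k R] (ℬ : ℤ → Submodule k S) [GradedAlgebra ℬ]
    (hposS : ∀ n : ℤ, n < 0 → ℬ n = ⊥) (h0S : ℬ 0 = Submodule.span k {(1 : S)})
    [Algebra.FiniteType k S] (T : Type u) [CommRing T] [Algebra k T] (𝒯 : ℤ → Submodule k T)
    [GradedAlgebra 𝒯] (ψ : T →ₐ[k] TensorProduct k R S) (hψ : Function.Injective ψ)
    (hdegT : ∀ n : ℤ, (𝒯 n).map ψ.toLinearMap =
      Submodule.span k {x : TensorProduct k R S | ∃ a ∈ 𝒜 n, ∃ b ∈ ℬ n, x = a ⊗ₜ[k] b})
    (r s : ℕ) (hr : ringKrullDim R = r) (hs : ringKrullDim S = s) (h1r : 1 ≤ r) (h1s : 1 ≤ s) :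
    ringKrullDim T = ((r + s - 1 : ℕ) : WithBot ℕ∞) := by
  classical
  obtain ⟨r', rfl⟩ : ∃ r', r = r' + 1 := ⟨r - 1, by omega⟩
  obtain ⟨s', rfl⟩ : ∃ s', s = s' + 1 := ⟨s - 1, by omega⟩
  obtain ⟨DR, hDR, hR⟩ := exists_homogeneous_noether hposR h0R (r' + 1) hr
  obtain ⟨DS, hDS, hS⟩ := exists_homogeneous_noether hposS h0S (s' + 1) hs
  obtain ⟨x, hx, hxint, hxalg⟩ := hR DS hDS
  obtain ⟨y, hy, hyint, hyalg⟩ := hS DR hDR
  have hDpos : (0 : ℤ) < ((DS * DR : ℕ) : ℤ) := by exact_mod_cast Nat.mul_pos hDS hDR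
  have hy' : ∀ j, y j ∈ ℬ ((DS * DR : ℕ) : ℤ) := by
    intro j
    have := hy j
    rwa [mul_comm] at this
  haveI := hxint
  haveI := hyint
  have hP : segP (k := k) x y ≤ ψ.range := by
    apply Algebra.adjoin_le
    rintro _ ⟨⟨i, j⟩, rfl⟩
    have hmem : x i ⊗ₜ[k] y j ∈ (𝒯 ((DS * DR : ℕ) : ℤ)).map ψ.toLinearMap := by
      rw [hdegT]
      exact Submodule.subset_span ⟨x i, hx i, y j, hy' j, rfl⟩
    obtain ⟨t, _, ht⟩ := hmem
    exact ⟨t, ht⟩
  have hint : ∀ b ∈ ψ.range, IsIntegral (segP (k := k) x y) b := by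
    rintro _ ⟨t, rfl⟩
    show IsIntegral _ (ψ t)
    rw [← DirectSum.sum_support_decompose 𝒯 t, map_sum]
    refine IsIntegral.sum _ (fun n _ => ?_)
    have hmem : ψ (DirectSum.decompose 𝒯 t n : T) ∈ (𝒯 n).map ψ.toLinearMap :=
      ⟨_, (DirectSum.decompose 𝒯 t n).2, rfl⟩
    rw [hdegT n] at hmem
    generalize ψ (DirectSum.decompose 𝒯 t n : T) = z at hmem
    induction hmem using Submodule.span_induction with
    | mem z hz =>
      obtain ⟨a, ha, b, hb, rfl⟩ := hz
      exact isIntegral_tmul_segP x y hDpos hx hy' ha hb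
    | zero => exact isIntegral_zero
    | add z z' _ _ h h' => exact h.add h'
    | smul c z _ h => exact h.smul c
  have h1 : ringKrullDim T = ringKrullDim ψ.range :=
    ringKrullDim_eq_of_ringEquiv (AlgEquiv.ofInjective ψ hψ).toRingEquiv
  have h2 : ringKrullDim ψ.range = ringKrullDim (segP (k := k) x y) :=
    ringKrullDim_eq_of_le_of_isIntegral _ _ hP hint
  have h3 := ringKrullDim_segP x y hxalg hyalg
  rw [h1, h2, h3]
  have e : r' + s' + 1 = r' + 1 + (s' + 1) - 1 := by omega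
  rw [e]

end

end Groth.Agent.Lib.Helper6.SegDim
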